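import Mathlib
import Cfsg.Agent.TcData.Fi23.I31671.Tab

set_option autoImplicit false
set_option maxRecDepth 100000
set_option linter.all false

namespace Cfsg.Agent.TcData.Fi23.I31671

open Cfsg.Spor Cfsg.Agent.Lib.TcFacts Cfsg.Agent.Lib.TcBits Cfsg.Agent.Lib.TcPres Cfsg.Spor.Fi23 Cfsg.Agent.TcData.Fi23

theorem b36 : Block F al 9216 9472 211 :=
  block_of_check (k := 8) rfl (by decide +kernel)

theorem b37 : Block F al 9472 9728 190 :=
  block_of_check (k := 8) rfl (by decide +kernel)

theorem b38 : Block F al 9728 9984 204 :=
  block_of_check (k := 8) rfl (by decide +kernel)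

theorem b39 : Block F al 9984 10240 201 :=
  block_of_check (k := 8) rfl (by decide +kernel)

theorem b40 : Block F al 10240 10496 197 :=
  block_of_check (k := 8) rfl (by decide +kernel)

theorem b41 : Block F al 10496 10752 40 :=
  block_of_check (k := 8) rfl (by decide +kernel)

theorem b42 : Block F al 10752 11008 60 :=
  block_of_check (k := 8) rfl (by decide +kernel)

theorem b43 : Block F al 11008 11264 67 :=
  block_of_check (k := 8) rfl (by decide +kernel)

theorem b44 : Block F al 11264 11520 59 :=
  block_of_check (k := 8) rfl (by decide +kernel)

theorem b45 : Block F al 11520 11776 16 :=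
  block_of_check (k := 8) rfl (by decide +kernel)

theorem b46 : Block F al 11776 12032 0 :=
  block_of_check (k := 8) rfl (by decide +kernel)

theorem b47 : Block F al 12032 12288 0 :=
  block_of_check (k := 8) rfl (by decide +kernel)

theorem b48 : Block F al 12288 12544 0 :=
  block_of_check (k := 8) rfl (by decide +kernel)

theorem b49 : Block F al 12544 12800 5 :=
  block_of_check (k := 8) rfl (by decide +kernel)

theorem b50 : Block F al 12800 13056 0 :=
  block_of_check (k := 8) rfl (by decide +kernel)

theorem b51 : Block F al 13056 13312 1 :=
  block_of_check (k := 8) rfl (by decide +kernel)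

theorem b52 : Block F al 13312 13568 159 :=
  block_of_check (k := 8) rfl (by decide +kernel)

theorem b53 : Block F al 13568 13824 246 :=
  block_of_check (k := 8) rfl (by decide +kernel)

theorem b54 : Block F al 13824 14080 139 :=
  block_of_check (k := 8) rfl (by decide +kernel)

theorem b55 : Block F al 14080 14336 149 :=
  block_of_check (k := 8) rfl (by decide +kernel)

theorem b56 : Block F al 14336 14592 208 :=
  block_of_check (k := 8) rfl (by decide +kernel)

theorem b57 : Block F al 14592 14848 168 :=
  block_of_check (k := 8) rfl (by decide +kernel)

theorem b58 : Block F al 14848 15104 158 :=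
  block_of_check (k := 8) rfl (by decide +kernel)

theorem b59 : Block F al 15104 15360 70 :=
  block_of_check (k := 8) rfl (by decide +kernel)

theorem b60 : Block F al 15360 15616 8 :=
  block_of_check (k := 8) rfl (by decide +kernel)

theorem b61 : Block F al 15616 15872 29 :=
  block_of_check (k := 8) rfl (by decide +kernel)

theorem b62 : Block F al 15872 16128 32 :=
  block_of_check (k := 8) rfl (by decide +kernel)

theorem b63 : Block F al 16128 16384 63 :=
  block_of_check (k := 8) rfl (by decide +kernel)

theorem b64 : Block F al 16384 16640 25 :=
  block_of_check (k := 8) rfl (by decide +kernel)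

theorem b65 : Block F al 16640 16896 14 :=
  block_of_check (k := 8) rfl (by decide +kernel)

theorem b66 : Block F al 16896 17152 1 :=
  block_of_check (k := 8) rfl (by decide +kernel)

theorem b67 : Block F al 17152 17408 0 :=
  block_of_check (k := 8) rfl (by decide +kernel)

theorem b68 : Block F al 17408 17664 0 :=
  block_of_check (k := 8) rfl (by decide +kernel)

theorem b69 : Block F al 17664 17920 0 :=
  block_of_check (k := 8) rfl (by decide +kernel)

theorem b70 : Block F al 17920 18176 0 :=
  block_of_check (k := 8) rfl (by decide +kernel)

theorem b71 : Block F al 18176 18432 0 :=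
  block_of_check (k := 8) rfl (by decide +kernel)

theorem b72 : Block F al 18432 18688 0 :=
  block_of_check (k := 8) rfl (by decide +kernel)

theorem b73 : Block F al 18688 18944 0 :=
  block_of_check (k := 8) rfl (by decide +kernel)

theorem b74 : Block F al 18944 19200 0 :=
  block_of_check (k := 8) rfl (by decide +kernel)

theorem b75 : Block F al 19200 19456 11 :=
  block_of_check (k := 8) rfl (by decide +kernel)

theorem b76 : Block F al 19456 19712 176 :=
  block_of_check (k := 8) rfl (by decide +kernel)

theorem b77 : Block F al 19712 19968 253 :=
  block_of_check (k := 8) rfl (by decide +kernel)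

theorem b78 : Block F al 19968 20224 171 :=
  block_of_check (k := 8) rfl (by decide +kernel)

theorem b79 : Block F al 20224 20480 91 :=
  block_of_check (k := 8) rfl (by decide +kernel)

end Cfsg.Agent.TcData.Fi23.I31671
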