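import Mathlib
import Cfsg.Agent.TcData.Fi23.I31671.Tab

set_option autoImplicit false
set_option maxRecDepth 100000
set_option linter.all false

namespace Cfsg.Agent.TcData.Fi23.I31671

open Cfsg.Spor Cfsg.Agent.Lib.TcFacts Cfsg.Agent.Lib.TcBits Cfsg.Agent.Lib.TcPres Cfsg.Spor.Fi23 Cfsg.Agent.TcData.Fi23

theorem b80 : Block F al 20480 20736 86 :=
  block_of_check (k := 8) rfl (by decide +kernel)

theorem b81 : Block F al 20736 20992 179 :=
  block_of_check (k := 8) rfl (by decide +kernel)

theorem b82 : Block F al 20992 21248 197 :=
  block_of_check (k := 8) rfl (by decide +kernel)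

theorem b83 : Block F al 21248 21504 145 :=
  block_of_check (k := 8) rfl (by decide +kernel)

theorem b84 : Block F al 21504 21760 124 :=
  block_of_check (k := 8) rfl (by decide +kernel)

theorem b85 : Block F al 21760 22016 147 :=
  block_of_check (k := 8) rfl (by decide +kernel)

theorem b86 : Block F al 22016 22272 6 :=
  block_of_check (k := 8) rfl (by decide +kernel)

theorem b87 : Block F al 22272 22528 0 :=
  block_of_check (k := 8) rfl (by decide +kernel)

theorem b88 : Block F al 22528 22784 6 :=
  block_of_check (k := 8) rfl (by decide +kernel)

theorem b89 : Block F al 22784 23040 19 :=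
  block_of_check (k := 8) rfl (by decide +kernel)

theorem b90 : Block F al 23040 23296 14 :=
  block_of_check (k := 8) rfl (by decide +kernel)

theorem b91 : Block F al 23296 23552 21 :=
  block_of_check (k := 8) rfl (by decide +kernel)

theorem b92 : Block F al 23552 23808 44 :=
  block_of_check (k := 8) rfl (by decide +kernel)

theorem b93 : Block F al 23808 24064 17 :=
  block_of_check (k := 8) rfl (by decide +kernel)

theorem b94 : Block F al 24064 24320 4 :=
  block_of_check (k := 8) rfl (by decide +kernel)

theorem b95 : Block F al 24320 24576 0 :=
  block_of_check (k := 8) rfl (by decide +kernel)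

theorem b96 : Block F al 24576 24832 0 :=
  block_of_check (k := 8) rfl (by decide +kernel)

theorem b97 : Block F al 24832 25088 0 :=
  block_of_check (k := 8) rfl (by decide +kernel)

theorem b98 : Block F al 25088 25344 0 :=
  block_of_check (k := 8) rfl (by decide +kernel)

theorem b99 : Block F al 25344 25600 0 :=
  block_of_check (k := 8) rfl (by decide +kernel)

theorem b100 : Block F al 25600 25856 0 :=
  block_of_check (k := 8) rfl (by decide +kernel)

theorem b101 : Block F al 25856 26112 0 :=
  block_of_check (k := 8) rfl (by decide +kernel)

theorem b102 : Block F al 26112 26368 0 :=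
  block_of_check (k := 8) rfl (by decide +kernel)

theorem b103 : Block F al 26368 26624 0 :=
  block_of_check (k := 8) rfl (by decide +kernel)

theorem b104 : Block F al 26624 26880 0 :=
  block_of_check (k := 8) rfl (by decide +kernel)

theorem b105 : Block F al 26880 27136 0 :=
  block_of_check (k := 8) rfl (by decide +kernel)

theorem b106 : Block F al 27136 27392 0 :=
  block_of_check (k := 8) rfl (by decide +kernel)

theorem b107 : Block F al 27392 27648 0 :=
  block_of_check (k := 8) rfl (by decide +kernel)

theorem b108 : Block F al 27648 27904 0 :=
  block_of_check (k := 8) rfl (by decide +kernel)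

theorem b109 : Block F al 27904 28160 75 :=
  block_of_check (k := 8) rfl (by decide +kernel)

theorem b110 : Block F al 28160 28416 172 :=
  block_of_check (k := 8) rfl (by decide +kernel)

theorem b111 : Block F al 28416 28672 238 :=
  block_of_check (k := 8) rfl (by decide +kernel)

theorem b112 : Block F al 28672 28928 206 :=
  block_of_check (k := 8) rfl (by decide +kernel)

theorem b113 : Block F al 28928 29184 98 :=
  block_of_check (k := 8) rfl (by decide +kernel)

theorem b114 : Block F al 29184 29440 96 :=
  block_of_check (k := 8) rfl (by decide +kernel)

theorem b115 : Block F al 29440 29696 11 :=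
  block_of_check (k := 8) rfl (by decide +kernel)

theorem b116 : Block F al 29696 29952 91 :=
  block_of_check (k := 8) rfl (by decide +kernel)

theorem b117 : Block F al 29952 30208 140 :=
  block_of_check (k := 8) rfl (by decide +kernel)

theorem b118 : Block F al 30208 30464 178 :=
  block_of_check (k := 8) rfl (by decide +kernel)

theorem b119 : Block F al 30464 30720 163 :=
  block_of_check (k := 8) rfl (by decide +kernel)

theorem b120 : Block F al 30720 30976 123 :=
  block_of_check (k := 8) rfl (by decide +kernel)

theorem b121 : Block F al 30976 31232 81 :=
  block_of_check (k := 8) rfl (by decide +kernel)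

theorem b122 : Block F al 31232 31488 93 :=
  block_of_check (k := 8) rfl (by decide +kernel)

theorem b123 : Block F al 31488 31744 106 :=
  block_of_check (k := 8) rfl (by decide +kernel)

theorem b124 : Block F al 31744 32000 1 :=
  block_of_check (k := 8) rfl (by decide +kernel)

theorem b125 : Block F al 32000 32256 1 :=
  block_of_check (k := 8) rfl (by decide +kernel)

theorem b126 : Block F al 32256 32512 4 :=
  block_of_check (k := 8) rfl (by decide +kernel)

theorem b127 : Block F al 32512 32768 17 :=
  block_of_check (k := 8) rfl (by decide +kernel)

theorem b128 : Block F al 32768 33024 7 :=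
  block_of_check (k := 8) rfl (by decide +kernel)

theorem b129 : Block F al 33024 33280 17 :=
  block_of_check (k := 8) rfl (by decide +kernel)

theorem b130 : Block F al 33280 33536 34 :=
  block_of_check (k := 8) rfl (by decide +kernel)

theorem b131 : Block F al 33536 33792 8 :=
  block_of_check (k := 8) rfl (by decide +kernel)

theorem b132 : Block F al 33792 34048 0 :=
  block_of_check (k := 8) rfl (by decide +kernel)

theorem b133 : Block F al 34048 34304 0 :=
  block_of_check (k := 8) rfl (by decide +kernel)

theorem b134 : Block F al 34304 34560 0 :=
  block_of_check (k := 8) rfl (by decide +kernel)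

end Cfsg.Agent.TcData.Fi23.I31671
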