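import Mathlib
import Cfsg.Agent.TcData.Fi23.I31671.Tab

set_option autoImplicit false
set_option maxRecDepth 100000
set_option linter.all false

namespace Cfsg.Agent.TcData.Fi23.I31671

open Cfsg.Spor Cfsg.Agent.Lib.TcFacts Cfsg.Agent.Lib.TcBits Cfsg.Agent.Lib.TcPres Cfsg.Spor.Fi23 Cfsg.Agent.TcData.Fi23

theorem b135 : Block F al 34560 34816 0 :=
  block_of_check (k := 8) rfl (by decide +kernel)

theorem b136 : Block F al 34816 35072 0 :=
  block_of_check (k := 8) rfl (by decide +kernel)

theorem b137 : Block F al 35072 35328 0 :=
  block_of_check (k := 8) rfl (by decide +kernel)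

theorem b138 : Block F al 35328 35584 0 :=
  block_of_check (k := 8) rfl (by decide +kernel)

theorem b139 : Block F al 35584 35840 0 :=
  block_of_check (k := 8) rfl (by decide +kernel)

theorem b140 : Block F al 35840 36096 0 :=
  block_of_check (k := 8) rfl (by decide +kernel)

theorem b141 : Block F al 36096 36352 44 :=
  block_of_check (k := 8) rfl (by decide +kernel)

theorem b142 : Block F al 36352 36608 102 :=
  block_of_check (k := 8) rfl (by decide +kernel)

theorem b143 : Block F al 36608 36864 195 :=
  block_of_check (k := 8) rfl (by decide +kernel)

theorem b144 : Block F al 36864 37120 194 :=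
  block_of_check (k := 8) rfl (by decide +kernel)

theorem b145 : Block F al 37120 37376 197 :=
  block_of_check (k := 8) rfl (by decide +kernel)

theorem b146 : Block F al 37376 37632 197 :=
  block_of_check (k := 8) rfl (by decide +kernel)

theorem b147 : Block F al 37632 37888 47 :=
  block_of_check (k := 8) rfl (by decide +kernel)

theorem b148 : Block F al 37888 38144 76 :=
  block_of_check (k := 8) rfl (by decide +kernel)

theorem b149 : Block F al 38144 38400 3 :=
  block_of_check (k := 8) rfl (by decide +kernel)

theorem b150 : Block F al 38400 38656 52 :=
  block_of_check (k := 8) rfl (by decide +kernel)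

theorem b151 : Block F al 38656 38912 88 :=
  block_of_check (k := 8) rfl (by decide +kernel)

theorem b152 : Block F al 38912 39168 179 :=
  block_of_check (k := 8) rfl (by decide +kernel)

theorem b153 : Block F al 39168 39424 120 :=
  block_of_check (k := 8) rfl (by decide +kernel)

theorem b154 : Block F al 39424 39680 132 :=
  block_of_check (k := 8) rfl (by decide +kernel)

theorem b155 : Block F al 39680 39936 139 :=
  block_of_check (k := 8) rfl (by decide +kernel)

theorem b156 : Block F al 39936 40192 81 :=
  block_of_check (k := 8) rfl (by decide +kernel)

theorem b157 : Block F al 40192 40448 103 :=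
  block_of_check (k := 8) rfl (by decide +kernel)

theorem b158 : Block F al 40448 40704 215 :=
  block_of_check (k := 8) rfl (by decide +kernel)

theorem b159 : Block F al 40704 40960 256 :=
  block_of_check (k := 8) rfl (by decide +kernel)

theorem b160 : Block F al 40960 41216 256 :=
  block_of_check (k := 8) rfl (by decide +kernel)

theorem b161 : Block F al 41216 41472 256 :=
  block_of_check (k := 8) rfl (by decide +kernel)

theorem b162 : Block F al 41472 41728 256 :=
  block_of_check (k := 8) rfl (by decide +kernel)

theorem b163 : Block F al 41728 41984 256 :=
  block_of_check (k := 8) rfl (by decide +kernel)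

theorem b164 : Block F al 41984 42240 256 :=
  block_of_check (k := 8) rfl (by decide +kernel)

theorem b165 : Block F al 42240 42496 256 :=
  block_of_check (k := 8) rfl (by decide +kernel)

theorem b166 : Block F al 42496 42752 256 :=
  block_of_check (k := 8) rfl (by decide +kernel)

theorem b167 : Block F al 42752 43008 256 :=
  block_of_check (k := 8) rfl (by decide +kernel)

theorem b168 : Block F al 43008 43264 256 :=
  block_of_check (k := 8) rfl (by decide +kernel)

theorem b169 : Block F al 43264 43520 256 :=
  block_of_check (k := 8) rfl (by decide +kernel)

theorem b170 : Block F al 43520 43776 256 :=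
  block_of_check (k := 8) rfl (by decide +kernel)

theorem b171 : Block F al 43776 44032 256 :=
  block_of_check (k := 8) rfl (by decide +kernel)

theorem b172 : Block F al 44032 44288 256 :=
  block_of_check (k := 8) rfl (by decide +kernel)

end Cfsg.Agent.TcData.Fi23.I31671
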