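import Mathlib
import Cfsg.Agent.TcData.Fi23.I31671.Chk0
import Cfsg.Agent.TcData.Fi23.I31671.Chk1
import Cfsg.Agent.TcData.Fi23.I31671.Chk2
import Cfsg.Agent.TcData.Fi23.I31671.Chk3
import Cfsg.Agent.TcData.Fi23.I31671.Chk4
import Cfsg.Agent.TcData.Fi23.I31671.Chk5
import Cfsg.Agent.TcData.Fi23.I31671.Chk6

set_option autoImplicit false
set_option maxRecDepth 100000
set_option linter.all false

namespace Cfsg.Agent.TcData.Fi23.I31671

open Cfsg.Spor Cfsg.Agent.Lib.TcFacts Cfsg.Agent.Lib.TcBits Cfsg.Agent.Lib.TcPres Cfsg.Spor.Fi23 Cfsg.Agent.TcData.Fi23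

theorem c0 : Block F al 0 256 255 := b0

theorem c1 : Block F al 0 512 508 :=
  block_comb c0 b1 (Nat.zero_le _) (Nat.le_of_ble_eq_true rfl) rfl

theorem c2 : Block F al 0 768 752 :=
  block_comb c1 b2 (Nat.zero_le _) (Nat.le_of_ble_eq_true rfl) rfl

theorem c3 : Block F al 0 1024 990 :=
  block_comb c2 b3 (Nat.zero_le _) (Nat.le_of_ble_eq_true rfl) rfl

theorem c4 : Block F al 0 1280 1229 :=
  block_comb c3 b4 (Nat.zero_le _) (Nat.le_of_ble_eq_true rfl) rfl

theorem c5 : Block F al 0 1536 1414 :=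
  block_comb c4 b5 (Nat.zero_le _) (Nat.le_of_ble_eq_true rfl) rfl

theorem c6 : Block F al 0 1792 1661 :=
  block_comb c5 b6 (Nat.zero_le _) (Nat.le_of_ble_eq_true rfl) rfl

theorem c7 : Block F al 0 2048 1851 :=
  block_comb c6 b7 (Nat.zero_le _) (Nat.le_of_ble_eq_true rfl) rfl

theorem c8 : Block F al 0 2304 2027 :=
  block_comb c7 b8 (Nat.zero_le _) (Nat.le_of_ble_eq_true rfl) rfl

theorem c9 : Block F al 0 2560 2261 :=
  block_comb c8 b9 (Nat.zero_le _) (Nat.le_of_ble_eq_true rfl) rfl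

theorem c10 : Block F al 0 2816 2421 :=
  block_comb c9 b10 (Nat.zero_le _) (Nat.le_of_ble_eq_true rfl) rfl

theorem c11 : Block F al 0 3072 2524 :=
  block_comb c10 b11 (Nat.zero_le _) (Nat.le_of_ble_eq_true rfl) rfl

theorem c12 : Block F al 0 3328 2756 :=
  block_comb c11 b12 (Nat.zero_le _) (Nat.le_of_ble_eq_true rfl) rfl

theorem c13 : Block F al 0 3584 2962 :=
  block_comb c12 b13 (Nat.zero_le _) (Nat.le_of_ble_eq_true rfl) rfl

theorem c14 : Block F al 0 3840 3158 :=
  block_comb c13 b14 (Nat.zero_le _) (Nat.le_of_ble_eq_true rfl) rfl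

theorem c15 : Block F al 0 4096 3253 :=
  block_comb c14 b15 (Nat.zero_le _) (Nat.le_of_ble_eq_true rfl) rfl

theorem c16 : Block F al 0 4352 3318 :=
  block_comb c15 b16 (Nat.zero_le _) (Nat.le_of_ble_eq_true rfl) rfl

theorem c17 : Block F al 0 4608 3476 :=
  block_comb c16 b17 (Nat.zero_le _) (Nat.le_of_ble_eq_true rfl) rfl

theorem c18 : Block F al 0 4864 3701 :=
  block_comb c17 b18 (Nat.zero_le _) (Nat.le_of_ble_eq_true rfl) rfl

theorem c19 : Block F al 0 5120 3898 :=
  block_comb c18 b19 (Nat.zero_le _) (Nat.le_of_ble_eq_true rfl) rfl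

theorem c20 : Block F al 0 5376 4061 :=
  block_comb c19 b20 (Nat.zero_le _) (Nat.le_of_ble_eq_true rfl) rfl

theorem c21 : Block F al 0 5632 4152 :=
  block_comb c20 b21 (Nat.zero_le _) (Nat.le_of_ble_eq_true rfl) rfl

theorem c22 : Block F al 0 5888 4186 :=
  block_comb c21 b22 (Nat.zero_le _) (Nat.le_of_ble_eq_true rfl) rfl

theorem c23 : Block F al 0 6144 4231 :=
  block_comb c22 b23 (Nat.zero_le _) (Nat.le_of_ble_eq_true rfl) rfl

theorem c24 : Block F al 0 6400 4235 :=
  block_comb c23 b24 (Nat.zero_le _) (Nat.le_of_ble_eq_true rfl) rfl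

theorem c25 : Block F al 0 6656 4468 :=
  block_comb c24 b25 (Nat.zero_le _) (Nat.le_of_ble_eq_true rfl) rfl

theorem c26 : Block F al 0 6912 4681 :=
  block_comb c25 b26 (Nat.zero_le _) (Nat.le_of_ble_eq_true rfl) rfl

theorem c27 : Block F al 0 7168 4896 :=
  block_comb c26 b27 (Nat.zero_le _) (Nat.le_of_ble_eq_true rfl) rfl

theorem c28 : Block F al 0 7424 5027 :=
  block_comb c27 b28 (Nat.zero_le _) (Nat.le_of_ble_eq_true rfl) rfl

theorem c29 : Block F al 0 7680 5139 :=
  block_comb c28 b29 (Nat.zero_le _) (Nat.le_of_ble_eq_true rfl) rfl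

theorem c30 : Block F al 0 7936 5244 :=
  block_comb c29 b30 (Nat.zero_le _) (Nat.le_of_ble_eq_true rfl) rfl

theorem c31 : Block F al 0 8192 5271 :=
  block_comb c30 b31 (Nat.zero_le _) (Nat.le_of_ble_eq_true rfl) rfl

theorem c32 : Block F al 0 8448 5271 :=
  block_comb c31 b32 (Nat.zero_le _) (Nat.le_of_ble_eq_true rfl) rfl

theorem c33 : Block F al 0 8704 5271 :=
  block_comb c32 b33 (Nat.zero_le _) (Nat.le_of_ble_eq_true rfl) rfl

theorem c34 : Block F al 0 8960 5286 :=
  block_comb c33 b34 (Nat.zero_le _) (Nat.le_of_ble_eq_true rfl) rfl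

theorem c35 : Block F al 0 9216 5287 :=
  block_comb c34 b35 (Nat.zero_le _) (Nat.le_of_ble_eq_true rfl) rfl

theorem c36 : Block F al 0 9472 5498 :=
  block_comb c35 b36 (Nat.zero_le _) (Nat.le_of_ble_eq_true rfl) rfl

theorem c37 : Block F al 0 9728 5688 :=
  block_comb c36 b37 (Nat.zero_le _) (Nat.le_of_ble_eq_true rfl) rfl

theorem c38 : Block F al 0 9984 5892 :=
  block_comb c37 b38 (Nat.zero_le _) (Nat.le_of_ble_eq_true rfl) rfl

theorem c39 : Block F al 0 10240 6093 :=
  block_comb c38 b39 (Nat.zero_le _) (Nat.le_of_ble_eq_true rfl) rfl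

theorem c40 : Block F al 0 10496 6290 :=
  block_comb c39 b40 (Nat.zero_le _) (Nat.le_of_ble_eq_true rfl) rfl

theorem c41 : Block F al 0 10752 6330 :=
  block_comb c40 b41 (Nat.zero_le _) (Nat.le_of_ble_eq_true rfl) rfl

theorem c42 : Block F al 0 11008 6390 :=
  block_comb c41 b42 (Nat.zero_le _) (Nat.le_of_ble_eq_true rfl) rfl

theorem c43 : Block F al 0 11264 6457 :=
  block_comb c42 b43 (Nat.zero_le _) (Nat.le_of_ble_eq_true rfl) rfl

theorem c44 : Block F al 0 11520 6516 :=
  block_comb c43 b44 (Nat.zero_le _) (Nat.le_of_ble_eq_true rfl) rfl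

theorem c45 : Block F al 0 11776 6532 :=
  block_comb c44 b45 (Nat.zero_le _) (Nat.le_of_ble_eq_true rfl) rfl

theorem c46 : Block F al 0 12032 6532 :=
  block_comb c45 b46 (Nat.zero_le _) (Nat.le_of_ble_eq_true rfl) rfl

theorem c47 : Block F al 0 12288 6532 :=
  block_comb c46 b47 (Nat.zero_le _) (Nat.le_of_ble_eq_true rfl) rfl

theorem c48 : Block F al 0 12544 6532 :=
  block_comb c47 b48 (Nat.zero_le _) (Nat.le_of_ble_eq_true rfl) rfl

theorem c49 : Block F al 0 12800 6537 :=
  block_comb c48 b49 (Nat.zero_le _) (Nat.le_of_ble_eq_true rfl) rfl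

theorem c50 : Block F al 0 13056 6537 :=
  block_comb c49 b50 (Nat.zero_le _) (Nat.le_of_ble_eq_true rfl) rfl

theorem c51 : Block F al 0 13312 6538 :=
  block_comb c50 b51 (Nat.zero_le _) (Nat.le_of_ble_eq_true rfl) rfl

theorem c52 : Block F al 0 13568 6697 :=
  block_comb c51 b52 (Nat.zero_le _) (Nat.le_of_ble_eq_true rfl) rfl

theorem c53 : Block F al 0 13824 6943 :=
  block_comb c52 b53 (Nat.zero_le _) (Nat.le_of_ble_eq_true rfl) rfl

theorem c54 : Block F al 0 14080 7082 :=
  block_comb c53 b54 (Nat.zero_le _) (Nat.le_of_ble_eq_true rfl) rfl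

theorem c55 : Block F al 0 14336 7231 :=
  block_comb c54 b55 (Nat.zero_le _) (Nat.le_of_ble_eq_true rfl) rfl

theorem c56 : Block F al 0 14592 7439 :=
  block_comb c55 b56 (Nat.zero_le _) (Nat.le_of_ble_eq_true rfl) rfl

theorem c57 : Block F al 0 14848 7607 :=
  block_comb c56 b57 (Nat.zero_le _) (Nat.le_of_ble_eq_true rfl) rfl

theorem c58 : Block F al 0 15104 7765 :=
  block_comb c57 b58 (Nat.zero_le _) (Nat.le_of_ble_eq_true rfl) rfl

theorem c59 : Block F al 0 15360 7835 :=
  block_comb c58 b59 (Nat.zero_le _) (Nat.le_of_ble_eq_true rfl) rfl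

theorem c60 : Block F al 0 15616 7843 :=
  block_comb c59 b60 (Nat.zero_le _) (Nat.le_of_ble_eq_true rfl) rfl

theorem c61 : Block F al 0 15872 7872 :=
  block_comb c60 b61 (Nat.zero_le _) (Nat.le_of_ble_eq_true rfl) rfl

theorem c62 : Block F al 0 16128 7904 :=
  block_comb c61 b62 (Nat.zero_le _) (Nat.le_of_ble_eq_true rfl) rfl

theorem c63 : Block F al 0 16384 7967 :=
  block_comb c62 b63 (Nat.zero_le _) (Nat.le_of_ble_eq_true rfl) rfl

theorem c64 : Block F al 0 16640 7992 :=
  block_comb c63 b64 (Nat.zero_le _) (Nat.le_of_ble_eq_true rfl) rfl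

theorem c65 : Block F al 0 16896 8006 :=
  block_comb c64 b65 (Nat.zero_le _) (Nat.le_of_ble_eq_true rfl) rfl

theorem c66 : Block F al 0 17152 8007 :=
  block_comb c65 b66 (Nat.zero_le _) (Nat.le_of_ble_eq_true rfl) rfl

theorem c67 : Block F al 0 17408 8007 :=
  block_comb c66 b67 (Nat.zero_le _) (Nat.le_of_ble_eq_true rfl) rfl

theorem c68 : Block F al 0 17664 8007 :=
  block_comb c67 b68 (Nat.zero_le _) (Nat.le_of_ble_eq_true rfl) rfl

theorem c69 : Block F al 0 17920 8007 :=
  block_comb c68 b69 (Nat.zero_le _) (Nat.le_of_ble_eq_true rfl) rfl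

theorem c70 : Block F al 0 18176 8007 :=
  block_comb c69 b70 (Nat.zero_le _) (Nat.le_of_ble_eq_true rfl) rfl

theorem c71 : Block F al 0 18432 8007 :=
  block_comb c70 b71 (Nat.zero_le _) (Nat.le_of_ble_eq_true rfl) rfl

theorem c72 : Block F al 0 18688 8007 :=
  block_comb c71 b72 (Nat.zero_le _) (Nat.le_of_ble_eq_true rfl) rfl

theorem c73 : Block F al 0 18944 8007 :=
  block_comb c72 b73 (Nat.zero_le _) (Nat.le_of_ble_eq_true rfl) rfl

theorem c74 : Block F al 0 19200 8007 :=
  block_comb c73 b74 (Nat.zero_le _) (Nat.le_of_ble_eq_true rfl) rfl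

theorem c75 : Block F al 0 19456 8018 :=
  block_comb c74 b75 (Nat.zero_le _) (Nat.le_of_ble_eq_true rfl) rfl

theorem c76 : Block F al 0 19712 8194 :=
  block_comb c75 b76 (Nat.zero_le _) (Nat.le_of_ble_eq_true rfl) rfl

theorem c77 : Block F al 0 19968 8447 :=
  block_comb c76 b77 (Nat.zero_le _) (Nat.le_of_ble_eq_true rfl) rfl

theorem c78 : Block F al 0 20224 8618 :=
  block_comb c77 b78 (Nat.zero_le _) (Nat.le_of_ble_eq_true rfl) rfl

theorem c79 : Block F al 0 20480 8709 :=
  block_comb c78 b79 (Nat.zero_le _) (Nat.le_of_ble_eq_true rfl) rfl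

theorem c80 : Block F al 0 20736 8795 :=
  block_comb c79 b80 (Nat.zero_le _) (Nat.le_of_ble_eq_true rfl) rfl

theorem c81 : Block F al 0 20992 8974 :=
  block_comb c80 b81 (Nat.zero_le _) (Nat.le_of_ble_eq_true rfl) rfl

theorem c82 : Block F al 0 21248 9171 :=
  block_comb c81 b82 (Nat.zero_le _) (Nat.le_of_ble_eq_true rfl) rfl

theorem c83 : Block F al 0 21504 9316 :=
  block_comb c82 b83 (Nat.zero_le _) (Nat.le_of_ble_eq_true rfl) rfl

theorem c84 : Block F al 0 21760 9440 :=
  block_comb c83 b84 (Nat.zero_le _) (Nat.le_of_ble_eq_true rfl) rfl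

theorem c85 : Block F al 0 22016 9587 :=
  block_comb c84 b85 (Nat.zero_le _) (Nat.le_of_ble_eq_true rfl) rfl

theorem c86 : Block F al 0 22272 9593 :=
  block_comb c85 b86 (Nat.zero_le _) (Nat.le_of_ble_eq_true rfl) rfl

theorem c87 : Block F al 0 22528 9593 :=
  block_comb c86 b87 (Nat.zero_le _) (Nat.le_of_ble_eq_true rfl) rfl

theorem c88 : Block F al 0 22784 9599 :=
  block_comb c87 b88 (Nat.zero_le _) (Nat.le_of_ble_eq_true rfl) rfl

theorem c89 : Block F al 0 23040 9618 :=
  block_comb c88 b89 (Nat.zero_le _) (Nat.le_of_ble_eq_true rfl) rfl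

theorem c90 : Block F al 0 23296 9632 :=
  block_comb c89 b90 (Nat.zero_le _) (Nat.le_of_ble_eq_true rfl) rfl

theorem c91 : Block F al 0 23552 9653 :=
  block_comb c90 b91 (Nat.zero_le _) (Nat.le_of_ble_eq_true rfl) rfl

theorem c92 : Block F al 0 23808 9697 :=
  block_comb c91 b92 (Nat.zero_le _) (Nat.le_of_ble_eq_true rfl) rfl

theorem c93 : Block F al 0 24064 9714 :=
  block_comb c92 b93 (Nat.zero_le _) (Nat.le_of_ble_eq_true rfl) rfl

theorem c94 : Block F al 0 24320 9718 :=
  block_comb c93 b94 (Nat.zero_le _) (Nat.le_of_ble_eq_true rfl) rfl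

theorem c95 : Block F al 0 24576 9718 :=
  block_comb c94 b95 (Nat.zero_le _) (Nat.le_of_ble_eq_true rfl) rfl

theorem c96 : Block F al 0 24832 9718 :=
  block_comb c95 b96 (Nat.zero_le _) (Nat.le_of_ble_eq_true rfl) rfl

theorem c97 : Block F al 0 25088 9718 :=
  block_comb c96 b97 (Nat.zero_le _) (Nat.le_of_ble_eq_true rfl) rfl

theorem c98 : Block F al 0 25344 9718 :=
  block_comb c97 b98 (Nat.zero_le _) (Nat.le_of_ble_eq_true rfl) rfl

theorem c99 : Block F al 0 25600 9718 :=
  block_comb c98 b99 (Nat.zero_le _) (Nat.le_of_ble_eq_true rfl) rfl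

theorem c100 : Block F al 0 25856 9718 :=
  block_comb c99 b100 (Nat.zero_le _) (Nat.le_of_ble_eq_true rfl) rfl

theorem c101 : Block F al 0 26112 9718 :=
  block_comb c100 b101 (Nat.zero_le _) (Nat.le_of_ble_eq_true rfl) rfl

theorem c102 : Block F al 0 26368 9718 :=
  block_comb c101 b102 (Nat.zero_le _) (Nat.le_of_ble_eq_true rfl) rfl

theorem c103 : Block F al 0 26624 9718 :=
  block_comb c102 b103 (Nat.zero_le _) (Nat.le_of_ble_eq_true rfl) rfl

theorem c104 : Block F al 0 26880 9718 :=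
  block_comb c103 b104 (Nat.zero_le _) (Nat.le_of_ble_eq_true rfl) rfl

theorem c105 : Block F al 0 27136 9718 :=
  block_comb c104 b105 (Nat.zero_le _) (Nat.le_of_ble_eq_true rfl) rfl

theorem c106 : Block F al 0 27392 9718 :=
  block_comb c105 b106 (Nat.zero_le _) (Nat.le_of_ble_eq_true rfl) rfl

theorem c107 : Block F al 0 27648 9718 :=
  block_comb c106 b107 (Nat.zero_le _) (Nat.le_of_ble_eq_true rfl) rfl

theorem c108 : Block F al 0 27904 9718 :=
  block_comb c107 b108 (Nat.zero_le _) (Nat.le_of_ble_eq_true rfl) rfl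

theorem c109 : Block F al 0 28160 9793 :=
  block_comb c108 b109 (Nat.zero_le _) (Nat.le_of_ble_eq_true rfl) rfl

theorem c110 : Block F al 0 28416 9965 :=
  block_comb c109 b110 (Nat.zero_le _) (Nat.le_of_ble_eq_true rfl) rfl

theorem c111 : Block F al 0 28672 10203 :=
  block_comb c110 b111 (Nat.zero_le _) (Nat.le_of_ble_eq_true rfl) rfl

theorem c112 : Block F al 0 28928 10409 :=
  block_comb c111 b112 (Nat.zero_le _) (Nat.le_of_ble_eq_true rfl) rfl

theorem c113 : Block F al 0 29184 10507 :=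
  block_comb c112 b113 (Nat.zero_le _) (Nat.le_of_ble_eq_true rfl) rfl

theorem c114 : Block F al 0 29440 10603 :=
  block_comb c113 b114 (Nat.zero_le _) (Nat.le_of_ble_eq_true rfl) rfl

theorem c115 : Block F al 0 29696 10614 :=
  block_comb c114 b115 (Nat.zero_le _) (Nat.le_of_ble_eq_true rfl) rfl

theorem c116 : Block F al 0 29952 10705 :=
  block_comb c115 b116 (Nat.zero_le _) (Nat.le_of_ble_eq_true rfl) rfl

theorem c117 : Block F al 0 30208 10845 :=
  block_comb c116 b117 (Nat.zero_le _) (Nat.le_of_ble_eq_true rfl) rfl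

theorem c118 : Block F al 0 30464 11023 :=
  block_comb c117 b118 (Nat.zero_le _) (Nat.le_of_ble_eq_true rfl) rfl

theorem c119 : Block F al 0 30720 11186 :=
  block_comb c118 b119 (Nat.zero_le _) (Nat.le_of_ble_eq_true rfl) rfl

theorem c120 : Block F al 0 30976 11309 :=
  block_comb c119 b120 (Nat.zero_le _) (Nat.le_of_ble_eq_true rfl) rfl

theorem c121 : Block F al 0 31232 11390 :=
  block_comb c120 b121 (Nat.zero_le _) (Nat.le_of_ble_eq_true rfl) rfl

theorem c122 : Block F al 0 31488 11483 :=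
  block_comb c121 b122 (Nat.zero_le _) (Nat.le_of_ble_eq_true rfl) rfl

theorem c123 : Block F al 0 31744 11589 :=
  block_comb c122 b123 (Nat.zero_le _) (Nat.le_of_ble_eq_true rfl) rfl

theorem c124 : Block F al 0 32000 11590 :=
  block_comb c123 b124 (Nat.zero_le _) (Nat.le_of_ble_eq_true rfl) rfl

theorem c125 : Block F al 0 32256 11591 :=
  block_comb c124 b125 (Nat.zero_le _) (Nat.le_of_ble_eq_true rfl) rfl

theorem c126 : Block F al 0 32512 11595 :=
  block_comb c125 b126 (Nat.zero_le _) (Nat.le_of_ble_eq_true rfl) rfl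

theorem c127 : Block F al 0 32768 11612 :=
  block_comb c126 b127 (Nat.zero_le _) (Nat.le_of_ble_eq_true rfl) rfl

theorem c128 : Block F al 0 33024 11619 :=
  block_comb c127 b128 (Nat.zero_le _) (Nat.le_of_ble_eq_true rfl) rfl

theorem c129 : Block F al 0 33280 11636 :=
  block_comb c128 b129 (Nat.zero_le _) (Nat.le_of_ble_eq_true rfl) rfl

theorem c130 : Block F al 0 33536 11670 :=
  block_comb c129 b130 (Nat.zero_le _) (Nat.le_of_ble_eq_true rfl) rfl

theorem c131 : Block F al 0 33792 11678 :=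
  block_comb c130 b131 (Nat.zero_le _) (Nat.le_of_ble_eq_true rfl) rfl

theorem c132 : Block F al 0 34048 11678 :=
  block_comb c131 b132 (Nat.zero_le _) (Nat.le_of_ble_eq_true rfl) rfl

theorem c133 : Block F al 0 34304 11678 :=
  block_comb c132 b133 (Nat.zero_le _) (Nat.le_of_ble_eq_true rfl) rfl

theorem c134 : Block F al 0 34560 11678 :=
  block_comb c133 b134 (Nat.zero_le _) (Nat.le_of_ble_eq_true rfl) rfl

theorem c135 : Block F al 0 34816 11678 :=
  block_comb c134 b135 (Nat.zero_le _) (Nat.le_of_ble_eq_true rfl) rfl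

theorem c136 : Block F al 0 35072 11678 :=
  block_comb c135 b136 (Nat.zero_le _) (Nat.le_of_ble_eq_true rfl) rfl

theorem c137 : Block F al 0 35328 11678 :=
  block_comb c136 b137 (Nat.zero_le _) (Nat.le_of_ble_eq_true rfl) rfl

theorem c138 : Block F al 0 35584 11678 :=
  block_comb c137 b138 (Nat.zero_le _) (Nat.le_of_ble_eq_true rfl) rfl

theorem c139 : Block F al 0 35840 11678 :=
  block_comb c138 b139 (Nat.zero_le _) (Nat.le_of_ble_eq_true rfl) rfl

theorem c140 : Block F al 0 36096 11678 :=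
  block_comb c139 b140 (Nat.zero_le _) (Nat.le_of_ble_eq_true rfl) rfl

theorem c141 : Block F al 0 36352 11722 :=
  block_comb c140 b141 (Nat.zero_le _) (Nat.le_of_ble_eq_true rfl) rfl

theorem c142 : Block F al 0 36608 11824 :=
  block_comb c141 b142 (Nat.zero_le _) (Nat.le_of_ble_eq_true rfl) rfl

theorem c143 : Block F al 0 36864 12019 :=
  block_comb c142 b143 (Nat.zero_le _) (Nat.le_of_ble_eq_true rfl) rfl

theorem c144 : Block F al 0 37120 12213 :=
  block_comb c143 b144 (Nat.zero_le _) (Nat.le_of_ble_eq_true rfl) rfl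

theorem c145 : Block F al 0 37376 12410 :=
  block_comb c144 b145 (Nat.zero_le _) (Nat.le_of_ble_eq_true rfl) rfl

theorem c146 : Block F al 0 37632 12607 :=
  block_comb c145 b146 (Nat.zero_le _) (Nat.le_of_ble_eq_true rfl) rfl

theorem c147 : Block F al 0 37888 12654 :=
  block_comb c146 b147 (Nat.zero_le _) (Nat.le_of_ble_eq_true rfl) rfl

theorem c148 : Block F al 0 38144 12730 :=
  block_comb c147 b148 (Nat.zero_le _) (Nat.le_of_ble_eq_true rfl) rfl

theorem c149 : Block F al 0 38400 12733 :=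
  block_comb c148 b149 (Nat.zero_le _) (Nat.le_of_ble_eq_true rfl) rfl

theorem c150 : Block F al 0 38656 12785 :=
  block_comb c149 b150 (Nat.zero_le _) (Nat.le_of_ble_eq_true rfl) rfl

theorem c151 : Block F al 0 38912 12873 :=
  block_comb c150 b151 (Nat.zero_le _) (Nat.le_of_ble_eq_true rfl) rfl

theorem c152 : Block F al 0 39168 13052 :=
  block_comb c151 b152 (Nat.zero_le _) (Nat.le_of_ble_eq_true rfl) rfl

theorem c153 : Block F al 0 39424 13172 :=
  block_comb c152 b153 (Nat.zero_le _) (Nat.le_of_ble_eq_true rfl) rfl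

theorem c154 : Block F al 0 39680 13304 :=
  block_comb c153 b154 (Nat.zero_le _) (Nat.le_of_ble_eq_true rfl) rfl

theorem c155 : Block F al 0 39936 13443 :=
  block_comb c154 b155 (Nat.zero_le _) (Nat.le_of_ble_eq_true rfl) rfl

theorem c156 : Block F al 0 40192 13524 :=
  block_comb c155 b156 (Nat.zero_le _) (Nat.le_of_ble_eq_true rfl) rfl

theorem c157 : Block F al 0 40448 13627 :=
  block_comb c156 b157 (Nat.zero_le _) (Nat.le_of_ble_eq_true rfl) rfl

theorem c158 : Block F al 0 40704 13842 :=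
  block_comb c157 b158 (Nat.zero_le _) (Nat.le_of_ble_eq_true rfl) rfl

theorem c159 : Block F al 0 40960 14098 :=
  block_comb c158 b159 (Nat.zero_le _) (Nat.le_of_ble_eq_true rfl) rfl

theorem c160 : Block F al 0 41216 14354 :=
  block_comb c159 b160 (Nat.zero_le _) (Nat.le_of_ble_eq_true rfl) rfl

theorem c161 : Block F al 0 41472 14610 :=
  block_comb c160 b161 (Nat.zero_le _) (Nat.le_of_ble_eq_true rfl) rfl

theorem c162 : Block F al 0 41728 14866 :=
  block_comb c161 b162 (Nat.zero_le _) (Nat.le_of_ble_eq_true rfl) rfl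

theorem c163 : Block F al 0 41984 15122 :=
  block_comb c162 b163 (Nat.zero_le _) (Nat.le_of_ble_eq_true rfl) rfl

theorem c164 : Block F al 0 42240 15378 :=
  block_comb c163 b164 (Nat.zero_le _) (Nat.le_of_ble_eq_true rfl) rfl

theorem c165 : Block F al 0 42496 15634 :=
  block_comb c164 b165 (Nat.zero_le _) (Nat.le_of_ble_eq_true rfl) rfl

theorem c166 : Block F al 0 42752 15890 :=
  block_comb c165 b166 (Nat.zero_le _) (Nat.le_of_ble_eq_true rfl) rfl

theorem c167 : Block F al 0 43008 16146 :=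
  block_comb c166 b167 (Nat.zero_le _) (Nat.le_of_ble_eq_true rfl) rfl

theorem c168 : Block F al 0 43264 16402 :=
  block_comb c167 b168 (Nat.zero_le _) (Nat.le_of_ble_eq_true rfl) rfl

theorem c169 : Block F al 0 43520 16658 :=
  block_comb c168 b169 (Nat.zero_le _) (Nat.le_of_ble_eq_true rfl) rfl

theorem c170 : Block F al 0 43776 16914 :=
  block_comb c169 b170 (Nat.zero_le _) (Nat.le_of_ble_eq_true rfl) rfl

theorem c171 : Block F al 0 44032 17170 :=
  block_comb c170 b171 (Nat.zero_le _) (Nat.le_of_ble_eq_true rfl) rfl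

theorem c172 : Block F al 0 44288 17426 :=
  block_comb c171 b172 (Nat.zero_le _) (Nat.le_of_ble_eq_true rfl) rfl

theorem c173 : Block F al 0 44544 17682 :=
  block_comb c172 b173 (Nat.zero_le _) (Nat.le_of_ble_eq_true rfl) rfl

theorem c174 : Block F al 0 44800 17938 :=
  block_comb c173 b174 (Nat.zero_le _) (Nat.le_of_ble_eq_true rfl) rfl

theorem c175 : Block F al 0 45056 18194 :=
  block_comb c174 b175 (Nat.zero_le _) (Nat.le_of_ble_eq_true rfl) rfl

theorem c176 : Block F al 0 45312 18450 :=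
  block_comb c175 b176 (Nat.zero_le _) (Nat.le_of_ble_eq_true rfl) rfl

theorem c177 : Block F al 0 45568 18706 :=
  block_comb c176 b177 (Nat.zero_le _) (Nat.le_of_ble_eq_true rfl) rfl

theorem c178 : Block F al 0 45824 18962 :=
  block_comb c177 b178 (Nat.zero_le _) (Nat.le_of_ble_eq_true rfl) rfl

theorem c179 : Block F al 0 46080 19218 :=
  block_comb c178 b179 (Nat.zero_le _) (Nat.le_of_ble_eq_true rfl) rfl

theorem c180 : Block F al 0 46336 19474 :=
  block_comb c179 b180 (Nat.zero_le _) (Nat.le_of_ble_eq_true rfl) rfl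

theorem c181 : Block F al 0 46592 19730 :=
  block_comb c180 b181 (Nat.zero_le _) (Nat.le_of_ble_eq_true rfl) rfl

theorem c182 : Block F al 0 46848 19986 :=
  block_comb c181 b182 (Nat.zero_le _) (Nat.le_of_ble_eq_true rfl) rfl

theorem c183 : Block F al 0 47104 20242 :=
  block_comb c182 b183 (Nat.zero_le _) (Nat.le_of_ble_eq_true rfl) rfl

theorem c184 : Block F al 0 47360 20498 :=
  block_comb c183 b184 (Nat.zero_le _) (Nat.le_of_ble_eq_true rfl) rfl

theorem c185 : Block F al 0 47616 20754 :=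
  block_comb c184 b185 (Nat.zero_le _) (Nat.le_of_ble_eq_true rfl) rfl

theorem c186 : Block F al 0 47872 21010 :=
  block_comb c185 b186 (Nat.zero_le _) (Nat.le_of_ble_eq_true rfl) rfl

theorem c187 : Block F al 0 48128 21266 :=
  block_comb c186 b187 (Nat.zero_le _) (Nat.le_of_ble_eq_true rfl) rfl

theorem c188 : Block F al 0 48384 21522 :=
  block_comb c187 b188 (Nat.zero_le _) (Nat.le_of_ble_eq_true rfl) rfl

theorem c189 : Block F al 0 48640 21778 :=
  block_comb c188 b189 (Nat.zero_le _) (Nat.le_of_ble_eq_true rfl) rfl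

theorem c190 : Block F al 0 48896 22034 :=
  block_comb c189 b190 (Nat.zero_le _) (Nat.le_of_ble_eq_true rfl) rfl

theorem c191 : Block F al 0 49152 22290 :=
  block_comb c190 b191 (Nat.zero_le _) (Nat.le_of_ble_eq_true rfl) rfl

theorem c192 : Block F al 0 49408 22546 :=
  block_comb c191 b192 (Nat.zero_le _) (Nat.le_of_ble_eq_true rfl) rfl

theorem c193 : Block F al 0 49664 22802 :=
  block_comb c192 b193 (Nat.zero_le _) (Nat.le_of_ble_eq_true rfl) rfl

theorem c194 : Block F al 0 49920 23058 :=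
  block_comb c193 b194 (Nat.zero_le _) (Nat.le_of_ble_eq_true rfl) rfl

theorem c195 : Block F al 0 50176 23314 :=
  block_comb c194 b195 (Nat.zero_le _) (Nat.le_of_ble_eq_true rfl) rfl

theorem c196 : Block F al 0 50432 23570 :=
  block_comb c195 b196 (Nat.zero_le _) (Nat.le_of_ble_eq_true rfl) rfl

theorem c197 : Block F al 0 50688 23826 :=
  block_comb c196 b197 (Nat.zero_le _) (Nat.le_of_ble_eq_true rfl) rfl

theorem c198 : Block F al 0 50944 24082 :=
  block_comb c197 b198 (Nat.zero_le _) (Nat.le_of_ble_eq_true rfl) rfl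

theorem c199 : Block F al 0 51200 24338 :=
  block_comb c198 b199 (Nat.zero_le _) (Nat.le_of_ble_eq_true rfl) rfl

theorem c200 : Block F al 0 51456 24594 :=
  block_comb c199 b200 (Nat.zero_le _) (Nat.le_of_ble_eq_true rfl) rfl

theorem c201 : Block F al 0 51712 24850 :=
  block_comb c200 b201 (Nat.zero_le _) (Nat.le_of_ble_eq_true rfl) rfl

theorem c202 : Block F al 0 51968 25106 :=
  block_comb c201 b202 (Nat.zero_le _) (Nat.le_of_ble_eq_true rfl) rfl

theorem c203 : Block F al 0 52224 25362 :=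
  block_comb c202 b203 (Nat.zero_le _) (Nat.le_of_ble_eq_true rfl) rfl

theorem c204 : Block F al 0 52480 25618 :=
  block_comb c203 b204 (Nat.zero_le _) (Nat.le_of_ble_eq_true rfl) rfl

theorem c205 : Block F al 0 52736 25874 :=
  block_comb c204 b205 (Nat.zero_le _) (Nat.le_of_ble_eq_true rfl) rfl

theorem c206 : Block F al 0 52992 26130 :=
  block_comb c205 b206 (Nat.zero_le _) (Nat.le_of_ble_eq_true rfl) rfl

theorem c207 : Block F al 0 53248 26386 :=
  block_comb c206 b207 (Nat.zero_le _) (Nat.le_of_ble_eq_true rfl) rfl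

theorem c208 : Block F al 0 53504 26642 :=
  block_comb c207 b208 (Nat.zero_le _) (Nat.le_of_ble_eq_true rfl) rfl

theorem c209 : Block F al 0 53760 26898 :=
  block_comb c208 b209 (Nat.zero_le _) (Nat.le_of_ble_eq_true rfl) rfl

theorem c210 : Block F al 0 54016 27154 :=
  block_comb c209 b210 (Nat.zero_le _) (Nat.le_of_ble_eq_true rfl) rfl

theorem c211 : Block F al 0 54272 27410 :=
  block_comb c210 b211 (Nat.zero_le _) (Nat.le_of_ble_eq_true rfl) rfl

theorem c212 : Block F al 0 54528 27666 :=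
  block_comb c211 b212 (Nat.zero_le _) (Nat.le_of_ble_eq_true rfl) rfl

theorem c213 : Block F al 0 54784 27922 :=
  block_comb c212 b213 (Nat.zero_le _) (Nat.le_of_ble_eq_true rfl) rfl

theorem c214 : Block F al 0 55040 28178 :=
  block_comb c213 b214 (Nat.zero_le _) (Nat.le_of_ble_eq_true rfl) rfl

theorem c215 : Block F al 0 55296 28434 :=
  block_comb c214 b215 (Nat.zero_le _) (Nat.le_of_ble_eq_true rfl) rfl

theorem c216 : Block F al 0 55552 28690 :=
  block_comb c215 b216 (Nat.zero_le _) (Nat.le_of_ble_eq_true rfl) rfl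

theorem c217 : Block F al 0 55808 28946 :=
  block_comb c216 b217 (Nat.zero_le _) (Nat.le_of_ble_eq_true rfl) rfl

theorem c218 : Block F al 0 56064 29202 :=
  block_comb c217 b218 (Nat.zero_le _) (Nat.le_of_ble_eq_true rfl) rfl

theorem c219 : Block F al 0 56320 29458 :=
  block_comb c218 b219 (Nat.zero_le _) (Nat.le_of_ble_eq_true rfl) rfl

theorem c220 : Block F al 0 56576 29714 :=
  block_comb c219 b220 (Nat.zero_le _) (Nat.le_of_ble_eq_true rfl) rfl

theorem c221 : Block F al 0 56832 29970 :=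
  block_comb c220 b221 (Nat.zero_le _) (Nat.le_of_ble_eq_true rfl) rfl

theorem c222 : Block F al 0 57088 30226 :=
  block_comb c221 b222 (Nat.zero_le _) (Nat.le_of_ble_eq_true rfl) rfl

theorem c223 : Block F al 0 57344 30482 :=
  block_comb c222 b223 (Nat.zero_le _) (Nat.le_of_ble_eq_true rfl) rfl

theorem c224 : Block F al 0 57600 30738 :=
  block_comb c223 b224 (Nat.zero_le _) (Nat.le_of_ble_eq_true rfl) rfl

theorem c225 : Block F al 0 57856 30994 :=
  block_comb c224 b225 (Nat.zero_le _) (Nat.le_of_ble_eq_true rfl) rfl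

theorem c226 : Block F al 0 58112 31250 :=
  block_comb c225 b226 (Nat.zero_le _) (Nat.le_of_ble_eq_true rfl) rfl

theorem c227 : Block F al 0 58368 31506 :=
  block_comb c226 b227 (Nat.zero_le _) (Nat.le_of_ble_eq_true rfl) rfl

theorem c228 : Block F al 0 58624 31671 :=
  block_comb c227 b228 (Nat.zero_le _) (Nat.le_of_ble_eq_true rfl) rfl

end Cfsg.Agent.TcData.Fi23.I31671
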